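import Groth.Agent.Lib.FMod7.Push
import Groth.Agent.Lib.FMod7.Pres
import Groth.Agent.Lib.UnitsThick26.SES

/-!
# Exactness of sheaves of modules from their sections on a basis
-/

set_option autoImplicit false
universe u

open CategoryTheory CategoryTheory.Limits TopologicalSpace Opposite

noncomputable section

namespace GrothLib.FComp7

open GrothLib.FMod7

variable {T : TopCat.{u}} {O : Sheaf (Opens.grothendieckTopology T) CommRingCat.{u}}

theorem app_res_eq {M N : ModSite.Mod O} (f : M ⟶ N) {V W : Opens T} (h : W ≤ V) (x : ModSite.sect M V) :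
    f.val.app (op W) (sres M h x) = sres N h (f.val.app (op V) x) :=
  PresheafOfModules.naturality_apply f.val (homOfLE h).op x

variable {ι : Type*} (B : ι → Opens T) (hB : ∀ (V : Opens T), ∀ x ∈ V, ∃ i, x ∈ B i ∧ B i ≤ V)
include hB

theorem mono_of_basis {M N : ModSite.Mod O} (f : M ⟶ N)
    (hf : ∀ i (x : ModSite.sect M (B i)), f.val.app (op (B i)) x = 0 → x = 0) (V : Opens T) :
    Function.Injective (f.val.app (op V)) := by
  refine (injective_iff_map_eq_zero (f.val.app (op V)).hom).2 fun x hx => FMod7.sect_ext M _ _ fun y hy => ?_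
  obtain ⟨i, hyi, hi⟩ := hB V y hy
  refine ⟨B i, hi, hyi, ?_⟩
  have h0 : sres M hi (0 : ModSite.sect M V) = 0 := map_zero (M.val.map (homOfLE hi).op).hom
  rw [h0]
  refine hf i _ ?_
  rw [app_res_eq]
  exact (congrArg (sres N hi) hx).trans (map_zero (N.val.map (homOfLE hi).op).hom)

/-- A short complex is short exact if it is so on sections over a basis. -/
theorem shortExact_of_basis (S : ShortComplex (ModSite.Mod O))
    (hinj : ∀ i (x : ModSite.sect S.X₁ (B i)), S.f.val.app (op (B i)) x = 0 → x = 0)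
    (hex : ∀ i (x : ModSite.sect S.X₂ (B i)), S.g.val.app (op (B i)) x = 0 → ∃ y, S.f.val.app (op (B i)) y = x)
    (hsurj : ∀ i, Function.Surjective (S.g.val.app (op (B i)))) : S.ShortExact := by
  let G := SheafOfModules.toSheaf (ModSite.ringSh O)
  suffices h : (S.map G).ShortExact by
    have hm := h.mono_f
    have he := h.epi_g
    exact { exact := (ShortComplex.exact_map_iff_of_faithful S G).1 h.exact
            mono_f := G.mono_of_mono_map hm
            epi_g := G.epi_of_epi_map he }
  refine UnitsThick26.shortExact_of_sections (X := T) _ (fun V => mono_of_basis B hB S.f hinj V) (fun V a ha => ?_)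
    fun V x hx c => ?_
  · choose i hxi hiV using fun y : V => hB V y.1 y.2
    have hl : ∀ y, ∃ b : ModSite.sect S.X₁ (B (i y)), S.f.val.app _ b = sres S.X₂ (hiV y) a := fun y => by
      refine hex _ _ ?_
      rw [app_res_eq]
      exact (congrArg (sres S.X₃ (hiV y)) ha).trans (map_zero (S.X₃.val.map (homOfLE (hiV y)).op).hom)
    choose b hb using hl
    let F : TopCat.Sheaf AddCommGrpCat.{u} T := (SheafOfModules.toSheaf _).obj S.X₁
    have hcompat : TopCat.Presheaf.IsCompatible F.obj (fun y => B (i y)) b := fun y z => by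
      refine mono_of_basis B hB S.f hinj _ ?_
      show S.f.val.app _ (sres S.X₁ inf_le_left (b y)) = S.f.val.app _ (sres S.X₁ inf_le_right (b z))
      rw [app_res_eq, app_res_eq, hb, hb, FMod7.sres_sres, FMod7.sres_sres]
    obtain ⟨s, hs, -⟩ := TopCat.Sheaf.existsUnique_gluing' F (fun y => B (i y)) V (fun y => homOfLE (hiV y))
      (fun y hy => Opens.mem_iSup.2 ⟨⟨y, hy⟩, hxi _⟩) b hcompat
    refine ⟨s, FMod7.sect_ext S.X₂ _ _ fun y hy => ⟨B (i ⟨y, hy⟩), hiV _, hxi _, ?_⟩⟩
    refine (app_res_eq S.f _ _).symm.trans (Eq.trans ?_ (hb ⟨y, hy⟩))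
    exact congrArg (S.f.val.app _) (hs ⟨y, hy⟩)
  · obtain ⟨i, hxi, hi⟩ := hB V x hx
    obtain ⟨b, hb⟩ := hsurj i (sres S.X₃ hi c)
    exact ⟨B i, hi, hxi, b, hb⟩

end GrothLib.FComp7
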