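import Groth.Agent.Lib.FComp7.Spec

/-!
# Homomorphisms between completed modules on an affine formal spectrum
-/

set_option autoImplicit false
set_option linter.style.haveILetI false
set_option linter.unusedSectionVars false
universe u

open CategoryTheory CategoryTheory.Limits AlgebraicGeometry TopologicalSpace Opposite

noncomputable section

namespace GrothLib.FComp7

theorem exists_sum_smul {S M : Type*} [CommRing S] [AddCommGroup M] [Module S M] {s : ℕ} (g : Fin s → S)
    (N : Submodule S M) {x : M} (hx : x ∈ Ideal.span (Set.range g) • N) :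
    ∃ e : Fin s → M, (∀ l, e l ∈ N) ∧ x = ∑ l, g l • e l := by
  refine Submodule.smul_induction_on hx (fun r hr z hz => ?_) ?_
  · obtain ⟨c, rfl⟩ := (Submodule.mem_span_range_iff_exists_fun S).1 hr
    exact ⟨fun l => c l • z, fun l => Submodule.smul_mem _ _ hz, by
      rw [Finset.sum_smul]; exact Finset.sum_congr rfl fun l _ => by rw [smul_eq_mul, mul_comm, mul_smul]⟩
  · rintro x y ⟨e, he, rfl⟩ ⟨e', he', rfl⟩
    exact ⟨fun l => e l + e' l, fun l => add_mem (he l) (he' l), by simp [smul_add, Finset.sum_add_distrib]⟩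

variable {R : CommRingCat.{u}} {𝓘 : (Spec R).IdealSheafData} {J : Ideal R}
  (h : (FSch.completionAlong (Spec R) 𝓘).IsFormal)

/-- The whole space. -/
abbrev topO : (Spec R).affineOpens := ⟨⊤, isAffineOpen_top _⟩

/-- A scalar on the completion. -/
abbrev cScal (U : (Spec R).Opens) (r : R) : FMod7.Sec (FSch.completionAlong (Spec R) 𝓘) h (cOpen U) :=
  ((kap h).sharp.hom.app (op U)).hom (scal U r)

theorem cOf_smul_spec (U : (Spec R).Opens) (F : (Spec R).Modules) (r : R) (m : Γ(F, U)) :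
    cOf h U F (r • m) = cScal h U r • cOf h U F m := by
  rw [Scheme.Modules.smul_Spec_def]
  exact cOf_smul h U F _ m

variable {M N : ModuleCat.{u} R}

/-- A module in the global sections of its completion. -/
def gl (M : ModuleCat.{u} R) : M →+ CSec h (topO (R := R)).1 (tilde M) :=
  (cOf h _ _).comp (toU M _).toAddMonoidHom

theorem gl_apply (m : M) : gl h M m = cOf h _ _ (toU M (topO (R := R)).1 m) := rfl

theorem gl_nat (f : M ⟶ N) (m : M) :
    (cTMap h f).val.app (op (cOpen (topO (R := R)).1)) (gl h M m) = gl h N (f.hom m) := by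
  refine (cOf_nat h (topO (R := R)).1 (tilde.map f) (toU M _ m)).trans ?_
  rw [map_toU]
  rfl

theorem gl_smul (r : R) (m : M) : gl h M (r • m) = cScal h (topO (R := R)).1 r • gl h M m := by
  rw [gl_apply, map_smul, cOf_smul_spec]
  rfl

theorem toU_top_bijective (M : ModuleCat.{u} R) : Function.Bijective (toU M (topO (R := R)).1) :=
  ConcreteCategory.bijective_of_isIso (tilde.toOpen M ⊤)

variable (h𝓘 : ∀ U, 𝓘.ideal U = J.map (scal U.1))
include h𝓘

theorem cProj_eq_iff_spec (U : (Spec R).affineOpens) (G : (Spec R).Modules) (hG : Coh.IsQCoh G) (k : ℕ)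
    (m m' : Γ(G, U.1)) : cProj h U.1 G k (cOf h U.1 G m) = cProj h U.1 G k (cOf h U.1 G m') ↔
      m - m' ∈ J ^ (k + 1) • (⊤ : Submodule R Γ(G, U.1)) :=
  (cProj_eq_iff h U hG k m m').trans (mem_ideal_smul_iff h𝓘 U G _ _)

theorem cProj_gl_eq_iff (k : ℕ) (m m' : M) :
    cProj h _ _ k (gl h M m) = cProj h _ _ k (gl h M m') ↔ m - m' ∈ J ^ (k + 1) • (⊤ : Submodule R M) := by
  rw [gl_apply, gl_apply, cProj_eq_iff_spec h h𝓘 topO _ (isQCoh_tilde M), ← map_sub]
  refine ⟨fun hm => ?_, fun hm => map_mem J (toU M _) _ hm⟩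
  let e := LinearEquiv.ofBijective (toU M (topO (R := R)).1) (toU_top_bijective M)
  have := map_mem J e.symm.toLinearMap _ hm
  rwa [show e.symm.toLinearMap (toU M _ (m - m')) = m - m' from e.symm_apply_apply _] at this

theorem gl_bijective (M : ModuleCat.{u} R) [IsAdicComplete J M] : Function.Bijective (gl h M) := by
  constructor
  · refine (injective_iff_map_eq_zero _).2 fun m hm => IsHausdorff.haus (I := J) inferInstance m fun n => ?_
    have h1 := (cProj_gl_eq_iff h h𝓘 n m 0).1 (by rw [hm, map_zero])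
    rw [sub_zero] at h1
    rw [SModEq.sub_mem, sub_zero]
    exact Submodule.smul_mono_left (Ideal.pow_le_pow_right (Nat.le_succ n)) h1
  · intro z
    obtain ⟨a, ha, -⟩ := exists_approx h topO (isQCoh_tilde M) z
    choose m hm using fun k => (toU_top_bijective M).2 (a k)
    have hm' : ∀ k, cProj h _ _ k (gl h M (m k)) = cProj h _ _ k z := fun k => by rw [gl_apply, hm, ha]
    have hstep : ∀ k, m (k + 1) - m k ∈ J ^ (k + 1) • (⊤ : Submodule R M) := fun k => by
      refine (cProj_gl_eq_iff h h𝓘 k _ _).1 ?_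
      refine Eq.trans ?_ ((FMod7.sTrans_sProj h _ _ _ k z).trans (hm' k).symm)
      exact (FMod7.sTrans_sProj h _ _ _ k _).symm.trans (congrArg _ (hm' (k + 1)))
    have hcauchy : ∀ {i j : ℕ}, i ≤ j → m i ≡ m j [SMOD (J ^ i • ⊤ : Submodule R M)] := by
      intro i j hij
      induction j, hij using Nat.le_induction with
      | base => rfl
      | succ j hj ih =>
        refine ih.trans (SModEq.symm ?_)
        rw [SModEq.sub_mem]
        exact Submodule.smul_mono_left (Ideal.pow_le_pow_right (hj.trans (Nat.le_succ j))) (hstep j)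
    obtain ⟨L, hL⟩ := IsPrecomplete.prec (I := J) inferInstance hcauchy
    refine ⟨L, csec_ext h topO _ _ fun k => ?_⟩
    rw [← hm' k, cProj_gl_eq_iff h h𝓘]
    have h1 := (SModEq.sub_mem.1 (hL (k + 1)))
    have h2 := neg_mem h1
    rw [neg_sub] at h2
    have := add_mem h2 (hstep k)
    rwa [sub_add_sub_cancel] at this

omit h𝓘 in
theorem cProj_zero (U : (Spec R).Opens) (F : (Spec R).Modules) (k : ℕ) : cProj h U F k 0 = 0 :=
  map_zero (AddMonoidHom.mk' (cProj h U F k) (FMod7.sProj_add h _ _ _ k))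

omit h𝓘 in
theorem cProj_sum (U : (Spec R).Opens) (F : (Spec R).Modules) (k : ℕ) {ι : Type*} (t : Finset ι)
    (x : ι → CSec h U F) : cProj h U F k (∑ i ∈ t, x i) = ∑ i ∈ t, cProj h U F k (x i) :=
  map_sum (AddMonoidHom.mk' (cProj h U F k) (FMod7.sProj_add h _ _ _ k)) x t

/-- Scalar multiples on levels. -/
theorem cProj_cScal_smul (U : (Spec R).affineOpens) (G : (Spec R).Modules) (hG : Coh.IsQCoh G) (k : ℕ) (r : R)
    (z : CSec h U.1 G) (e : Γ(G, U.1)) (he : cProj h U.1 G k z = cProj h U.1 G k (cOf h U.1 G e)) :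
    cProj h U.1 G k (cScal h U.1 r • z) = cProj h U.1 G k (cOf h U.1 G (r • e)) := by
  rw [cOf_smul_spec]
  exact (FMod7.sProj_smul h _ _ _ k _ z).trans ((congrArg _ he).trans (FMod7.sProj_smul h _ _ _ k _ _).symm)

theorem cProj_cScal_eq_zero (U : (Spec R).affineOpens) (G : (Spec R).Modules) (hG : Coh.IsQCoh G) (k : ℕ) {r : R}
    (hr : r ∈ J ^ (k + 1)) (z : CSec h U.1 G) : cProj h U.1 G k (cScal h U.1 r • z) = 0 := by
  obtain ⟨e, he⟩ := cProj_cOf_surjective h U hG k (cProj h U.1 G k z)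
  rw [cProj_cScal_smul h h𝓘 U G hG k r z e he.symm, cProj_cOf_eq_zero_iff h U hG, mem_ideal_smul_iff h𝓘]
  exact Submodule.smul_mem_smul hr Submodule.mem_top

/-- The kernel of a projection consists of multiples of the ideal power. -/
theorem exists_eq_sum (hJ : J.FG) (U : (Spec R).affineOpens) (G : (Spec R).Modules) (hG : Coh.IsQCoh G) (k : ℕ)
    (y : CSec h U.1 G) (hy : cProj h U.1 G k y = 0) :
    ∃ (s : ℕ) (g : Fin s → R) (E : Fin s → CSec h U.1 G), (∀ l, g l ∈ J ^ (k + 1)) ∧
      y = ∑ l, cScal h U.1 (g l) • E l := by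
  obtain ⟨s, g, hg⟩ := Submodule.fg_iff_exists_fin_generating_family.1 (Submodule.FG.pow hJ (k + 1))
  have hg' : Ideal.span (Set.range g) = J ^ (k + 1) := hg
  obtain ⟨a, ha, hstep⟩ := exists_approx h U hG y
  simp only [mem_ideal_smul_iff h𝓘] at hstep
  have h0 : a k ∈ Ideal.span (Set.range g) • (⊤ : Submodule R Γ(G, U.1)) := by
    rw [hg', ← mem_ideal_smul_iff h𝓘, ← cProj_cOf_eq_zero_iff h U hG, ha, hy]
  obtain ⟨e₀, -, he₀⟩ := exists_sum_smul g _ h0
  have hd : ∀ i, a (k + i + 1) - a (k + i) ∈ Ideal.span (Set.range g) • (J ^ i • (⊤ : Submodule R Γ(G, U.1))) := by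
    intro i
    rw [← smul_assoc, hg', smul_eq_mul, ← pow_add, show k + 1 + i = k + i + 1 by omega]
    exact hstep _
  choose d hdmem hd' using fun i => exists_sum_smul g _ (hd i)
  let e : Fin s → ℕ → Γ(G, U.1) := fun l i => e₀ l + ∑ t ∈ Finset.range (i + 1), d t l
  have hsum : ∀ i, ∑ l, g l • e l i = a (k + i + 1) := by
    intro i
    simp only [e, smul_add, Finset.sum_add_distrib, Finset.smul_sum]
    rw [Finset.sum_comm, ← he₀, Finset.sum_congr rfl fun t _ => (hd' t).symm,
      show ∑ t ∈ Finset.range (i + 1), (a (k + t + 1) - a (k + t)) = a (k + (i + 1)) - a (k + 0) from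
        Finset.sum_range_sub (fun t => a (k + t)) (i + 1), show k + 0 = k from rfl, add_sub_cancel, add_assoc]
  have hlim : ∀ l, ∃ E : CSec h U.1 G, ∀ i, cProj h U.1 G i E = cProj h U.1 G i (cOf h U.1 G (e l i)) := fun l =>
    exists_limit h U hG (e l) fun i => by
      rw [mem_ideal_smul_iff h𝓘, show e l (i + 1) - e l i = d (i + 1) l by
        simp only [e, Finset.sum_range_succ _ (i + 1)]; abel]
      exact hdmem (i + 1) l
  choose E hE using hlim
  refine ⟨s, g, E, fun l => hg' ▸ Ideal.subset_span ⟨l, rfl⟩, csec_ext h U _ _ fun i => ?_⟩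
  rw [cProj_sum, Finset.sum_congr rfl fun l _ => cProj_cScal_smul h h𝓘 U G hG i (g l) (E l) _ (hE l i),
    ← cProj_sum, ← map_sum, hsum, ← ha i, cProj_eq_iff_spec h h𝓘 U G hG]
  have hle : ∀ n, a (i + n) - a i ∈ J ^ (i + 1) • (⊤ : Submodule R Γ(G, U.1)) := by
    intro n
    induction n with
    | zero => simp
    | succ n ih =>
      rw [show a (i + (n + 1)) - a i = (a (i + n + 1) - a (i + n)) + (a (i + n) - a i) by rw [← add_assoc]; abel]
      exact add_mem (Submodule.smul_mono_left (Ideal.pow_le_pow_right (by omega)) (hstep (i + n))) ih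
  have := neg_mem (hle (k + 1))
  rwa [neg_sub, show i + (k + 1) = k + i + 1 by omega] at this

/-- A morphism of completed modules killing the module is zero. -/
theorem hom_eq_zero (hJ : J.FG) (ψ : cT h M ⟶ cT h N)
    (hψ : ∀ m, ψ.val.app (op (cOpen (topO (R := R)).1)) (gl h M m) = 0) : ψ = 0 := by
  refine SheafOfModules.hom_ext (PresheafOfModules.hom_ext fun V => ModuleCat.hom_ext (LinearMap.ext fun x => ?_))
  refine FMod7.sect_ext _ _ _ fun y hy => ?_
  obtain ⟨a, hya, ha⟩ := exists_cOpen_nbhd (𝓘 := 𝓘) V.unop y hy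
  refine ⟨_, ha, hya, ?_⟩
  refine (app_res_eq _ ha x).symm.trans (Eq.trans ?_ (app_res_eq (0 : cT h M ⟶ cT h N) ha x))
  let z : CSec h (dOpen a).1 (tilde M) := FMod7.sres (cT h M) ha x
  let P : CSec h (dOpen a).1 (tilde M) →ₗ[FMod7.Sec (FSch.completionAlong (Spec R) 𝓘) h (cOpen (dOpen a).1)]
      CSec h (dOpen a).1 (tilde N) := (ψ.val.app (op (cOpen (dOpen a).1))).hom
  refine csec_ext h (dOpen a) _ _ fun k => ?_
  show cProj h _ _ k (P z) = cProj h _ _ k 0
  rw [cProj_zero]
  obtain ⟨m₀, hm₀⟩ := cProj_cOf_surjective h (dOpen a) (isQCoh_tilde M) k (cProj h _ _ k z)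
  obtain ⟨s, g, E, hg, hE⟩ := exists_eq_sum h h𝓘 hJ (dOpen a) _ (isQCoh_tilde M) k (z - cOf h _ _ m₀) (by
    have := FMod7.sProj_add h (cOpen (dOpen a).1) _ (FSch.complMod 𝓘 (tilde M)).toPush k (z - cOf h _ _ m₀) (cOf h _ _ m₀)
    rw [sub_add_cancel] at this
    exact add_eq_right.1 (this.symm.trans hm₀.symm))
  have h1 : cProj h _ _ k (P (z - cOf h _ _ m₀)) = 0 := by
    rw [hE, map_sum, cProj_sum]
    refine Finset.sum_eq_zero fun l _ => ?_
    rw [map_smul]
    exact cProj_cScal_eq_zero h h𝓘 (dOpen a) _ (isQCoh_tilde N) k (hg l) _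
  have h2 : cProj h _ _ k (P (cOf h _ _ m₀)) = 0 := by
    obtain ⟨m, i, hm⟩ := exists_rep M a m₀
    have h3 : cScal h (dOpen a).1 (a ^ i) • P (cOf h _ _ m₀) = 0 := by
      rw [← map_smul, ← cOf_smul_spec, hm]
      have e1 : FMod7.sres (cT h M) (Scheme.Hom.preimage_mono (FSch.completionToX (Spec R) 𝓘 0) (le_top : (dOpen a).1 ≤ ⊤))
          (gl h M m) = cOf h _ _ (toU M (dOpen a).1 m) :=
        (cOf_res h (le_top : (dOpen a).1 ≤ ⊤) _ _).trans (congrArg (cOf h _ _)
          (ConcreteCategory.congr_hom (tilde.toOpen_res M ⊤ (dOpen a).1 (homOfLE le_top)) m))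
      refine (congrArg P e1.symm).trans ((app_res_eq ψ _ _).trans ?_)
      exact (congrArg _ (hψ m)).trans (map_zero ((cT h N).val.map _).hom)
    obtain ⟨n, hn⟩ := cProj_cOf_surjective h (dOpen a) (isQCoh_tilde N) k (cProj h _ _ k (P (cOf h _ _ m₀)))
    have h4 := cProj_cScal_smul h h𝓘 (dOpen a) _ (isQCoh_tilde N) k (a ^ i) _ n hn.symm
    rw [h3, cProj_zero, eq_comm, cProj_cOf_eq_zero_iff h (dOpen a) (isQCoh_tilde N), mem_ideal_smul_iff h𝓘] at h4
    refine hn.symm.trans ?_
    rw [cProj_cOf_eq_zero_iff h (dOpen a) (isQCoh_tilde N), mem_ideal_smul_iff h𝓘]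
    obtain ⟨u, hu⟩ := (Scheme.Modules.isUnit_algebraMap_end_of_le_basicOpen
      (M := tilde N) (U := (dOpen a).1) a le_rfl).pow i
    have h5 := map_mem J (↑u⁻¹ : Module.End R Γ(tilde N, (dOpen a).1)) (k + 1) h4
    have h6 : (u : Module.End R Γ(tilde N, (dOpen a).1)) n = a ^ i • n := by rw [hu, ← map_pow]; rfl
    rw [← h6] at h5
    rwa [show (↑u⁻¹ : Module.End R _) ((u : Module.End R _) n) = ((↑u⁻¹ * ↑u : Module.End R _)) n from rfl,
      Units.inv_mul] at h5
  have h7 := FMod7.sProj_add h (cOpen (dOpen a).1) _ (FSch.complMod 𝓘 (tilde N)).toPush k (P (z - cOf h _ _ m₀)) (P (cOf h _ _ m₀))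
  rw [← map_add, sub_add_cancel] at h7
  exact h7.trans ((congr_arg₂ (· + ·) h1 h2).trans (add_zero _))

/-- Completion is fully faithful on complete modules. -/
theorem cTMap_bijective (hJ : J.FG) (M N : ModuleCat.{u} R) [IsAdicComplete J M] [IsAdicComplete J N] :
    Function.Bijective (fun f : M ⟶ N => cTMap h f) := by
  have hN := gl_bijective h h𝓘 N
  constructor
  · intro f g hfg
    refine ModuleCat.hom_ext (LinearMap.ext fun m => hN.1 ?_)
    rw [← gl_nat, ← gl_nat]
    exact congrArg (fun φ : cT h M ⟶ cT h N => φ.val.app (op (cOpen (topO (R := R)).1)) (gl h M m)) hfg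
  · intro φ
    let P : CSec h (topO (R := R)).1 (tilde M) →ₗ[FMod7.Sec (FSch.completionAlong (Spec R) 𝓘) h (cOpen (topO (R := R)).1)]
        CSec h (topO (R := R)).1 (tilde N) := (φ.val.app (op (cOpen (topO (R := R)).1))).hom
    choose u hu using fun m => hN.2 (P (gl h M m))
    let f : M →ₗ[R] N :=
      { toFun := u
        map_add' := fun m m' => hN.1 (by rw [map_add, hu, hu, hu, map_add, map_add])
        map_smul' := fun r m => hN.1 (by rw [RingHom.id_apply, gl_smul, hu, hu, gl_smul, map_smul]) }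
    refine ⟨ModuleCat.ofHom f, (sub_eq_zero.1 (hom_eq_zero h h𝓘 hJ (φ - cTMap h (ModuleCat.ofHom f)) fun m => ?_)).symm⟩
    refine sub_eq_zero.2 ((hu m).symm.trans ?_)
    exact (gl_nat h (ModuleCat.ofHom f) m).symm

end GrothLib.FComp7
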