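import Groth.Agent.Lib.FComp7.Global
import Groth.Agent.Lib.RigidBase.Algebra

/-!
# Completion of finite modules over algebras of topologically finite type
-/

set_option autoImplicit false
set_option linter.style.haveILetI false
set_option linter.unusedSectionVars false
universe u

open CategoryTheory CategoryTheory.Limits AlgebraicGeometry

noncomputable section

namespace GrothLib.FComp7

variable {R : Type u} [CommRing R] {I : Ideal R} (hR : AdicRing.IsBase R I)
  {A : Type u} [CommRing A] [Algebra R A] (hA : AdicRing.TopFiniteType R I A)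

include hR in
theorem fg_map : (I.map (algebraMap R A)).FG := by
  refine Ideal.FG.map ?_ _
  rcases hR.2 with ⟨hN, -⟩ | ⟨-, -, -, t, -, rfl⟩
  · exact IsNoetherian.noetherian I
  · exact Submodule.fg_span_singleton t

include hR hA in
theorem isAdicComplete_map (M : ModuleCat.{u} A) [Module.Finite A M] :
    IsAdicComplete (I.map (algebraMap R A)) M := by
  let _ : Module R M := Module.compHom M (algebraMap R A)
  haveI : IsScalarTower R A M := IsScalarTower.of_algebraMap_smul fun _ _ => rfl
  exact (IsAdicComplete.map_algebraMap_iff I M).2 (RigidBase.isAdicComplete_alg hR hA)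

include hR hA in
theorem exists_artinRees {M N : ModuleCat.{u} A} [Module.Finite A N] (f : M ⟶ N) (hf : Function.Injective f.hom) :
    ∃ n₀ : ℕ, ∀ (k : ℕ) (m : M), f.hom m ∈ I.map (algebraMap R A) ^ (k + n₀) • (⊤ : Submodule A N) →
      m ∈ I.map (algebraMap R A) ^ k • (⊤ : Submodule A M) := by
  let _ : Module R M := Module.compHom M (algebraMap R A)
  let _ : Module R N := Module.compHom N (algebraMap R A)
  haveI : IsScalarTower R A M := IsScalarTower.of_algebraMap_smul fun _ _ => rfl
  haveI : IsScalarTower R A N := IsScalarTower.of_algebraMap_smul fun _ _ => rfl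
  obtain ⟨n₀, hn₀⟩ := RigidBase.artinRees_alg hR hA (LinearMap.range f.hom)
  refine ⟨n₀, fun k m hm => ?_⟩
  rw [← Ideal.map_pow] at hm ⊢
  rw [FPush7.mem_map_smul_top_iff (algebraMap R A) (fun _ _ => rfl)] at hm ⊢
  have h1 := hn₀ k ⟨hm, LinearMap.mem_range_self f.hom m⟩
  let fR : M →ₗ[R] N := f.hom.restrictScalars R
  rw [show (LinearMap.range f.hom).restrictScalars R = Submodule.map fR ⊤ from Submodule.ext fun x => by simp [fR],
    ← Submodule.map_smul''] at h1
  obtain ⟨m', hm', he⟩ := h1
  rwa [hf he] at hm'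

variable (A) in
/-- The ideal on basic opens. -/
theorem h𝓘_spec : ∀ U, (FSch.idealSpec A (I.map (algebraMap R A))).ideal U =
    (I.map (algebraMap R A)).map (scal (R := CommRingCat.of A) U.1) :=
  ideal_idealSpec_eq _

variable (h : (FSch.completionAlong (Spec (CommRingCat.of A)) (FSch.idealSpec A (I.map (algebraMap R A)))).IsFormal)

include hR hA in
theorem bijective_rigid (M N : ModuleCat.{u} A) [Module.Finite A M] [Module.Finite A N] :
    Function.Bijective (fun u : M ⟶ N =>
      FSch.ModSys.realModMap h (FSch.complModMap (FSch.idealSpec A (I.map (algebraMap R A)))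
        ((tilde.functor (CommRingCat.of A)).map u))) := by
  haveI := isAdicComplete_map hR hA M
  haveI := isAdicComplete_map hR hA N
  exact cTMap_bijective (R := CommRingCat.of A) h (h𝓘_spec A) (fg_map hR) M N

include hR hA in
theorem shortExact_rigid {M N P : ModuleCat.{u} A} [Module.Finite A N] (f : M ⟶ N) (g : N ⟶ P)
    (hf : Function.Injective f.hom) (w : ∀ m, g.hom (f.hom m) = 0)
    (hfg : ∀ n, g.hom n = 0 → ∃ m, f.hom m = n) (hg : Function.Surjective g.hom) :
    ∃ e : cTMap (R := CommRingCat.of A) h f ≫ cTMap (R := CommRingCat.of A) h g = 0,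
      (ShortComplex.mk _ _ e).ShortExact := by
  obtain ⟨n₀, har⟩ := exists_artinRees hR hA f hf
  exact shortExact_cTMap (R := CommRingCat.of A) (I.map (algebraMap R A)) (h𝓘_spec A) h f g w hfg hg n₀ har

include hR hA in
/-- Exactness is reflected. -/
theorem shortExact_reflect {M₁ M₂ M₃ : ModuleCat.{u} A} [Module.Finite A M₁] [Module.Finite A M₂]
    [Module.Finite A M₃] (u : M₁ ⟶ M₂) (v : M₂ ⟶ M₃)
    (w : cTMap (R := CommRingCat.of A) h u ≫ cTMap (R := CommRingCat.of A) h v = 0)
    (hS : (ShortComplex.mk _ _ w).ShortExact) : ∃ w : u ≫ v = 0, (ShortComplex.mk u v w).ShortExact := by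
  haveI := hS.mono_f
  haveI := hS.epi_g
  haveI := isAdicComplete_map hR hA M₁
  haveI := isAdicComplete_map hR hA M₂
  haveI := isAdicComplete_map hR hA M₃
  let C : ModuleCat.{u} A := ModuleCat.of A (M₃ ⧸ LinearMap.range v.hom)
  haveI : Module.Finite A C := Module.Finite.quotient A _
  haveI := isAdicComplete_map hR hA C
  have b₁ := gl_bijective (R := CommRingCat.of A) h (h𝓘_spec A) M₁
  have b₂ := gl_bijective (R := CommRingCat.of A) h (h𝓘_spec A) M₂
  have b₃ := gl_bijective (R := CommRingCat.of A) h (h𝓘_spec A) M₃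
  have huv : ∀ m, v.hom (u.hom m) = 0 := fun m => b₃.1 (by
    rw [map_zero, ← gl_nat, ← gl_nat]
    exact congrArg (fun φ : _ ⟶ cT (R := CommRingCat.of A) h M₃ => φ.val.app _ (gl (R := CommRingCat.of A) h M₁ m)) w)
  have hinj : Function.Injective u.hom := fun m m' hm => b₁.1 (by
    have := congrArg (gl (R := CommRingCat.of A) h M₂) hm
    rw [← gl_nat, ← gl_nat] at this
    exact PullLoc25.app_injective (cTMap (R := CommRingCat.of A) h u) _ this)
  have hex : ∀ n, v.hom n = 0 → ∃ m, u.hom m = n := fun n hn => by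
    obtain ⟨y, hy⟩ := PullLoc25.exists_kernel_section hS (gl (R := CommRingCat.of A) h M₂ n) (by
      refine (gl_nat (R := CommRingCat.of A) h v n).trans ?_
      rw [hn, map_zero]; rfl)
    obtain ⟨m, rfl⟩ := b₁.2 y
    exact ⟨m, b₂.1 ((gl_nat (R := CommRingCat.of A) h u m).symm.trans hy)⟩
  let q : M₃ ⟶ C := ModuleCat.ofHom (LinearMap.range v.hom).mkQ
  have hvq : v ≫ q = v ≫ (0 : M₃ ⟶ C) := by
    ext n
    exact (Submodule.Quotient.mk_eq_zero _).2 ⟨n, rfl⟩
  have hq : q = 0 := (cTMap_bijective (R := CommRingCat.of A) h (h𝓘_spec A) (fg_map hR) M₃ C).1 (by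
    refine (cancel_epi (cTMap (R := CommRingCat.of A) h v)).1 ?_
    rw [← cTMap_comp, ← cTMap_comp, hvq])
  have hsurj : Function.Surjective v.hom := fun z => by
    have h0 : (LinearMap.range v.hom).mkQ z = 0 := congrArg (fun φ : M₃ ⟶ C => φ.hom z) hq
    exact (Submodule.Quotient.mk_eq_zero _).1 h0
  refine ⟨ModuleCat.hom_ext (LinearMap.ext huv), ?_⟩
  exact { exact := (ShortComplex.moduleCat_exact_iff _).2 hex
          mono_f := (ModuleCat.mono_iff_injective _).2 hinj
          epi_g := (ModuleCat.epi_iff_surjective _).2 hsurj }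

end GrothLib.FComp7
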