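import Groth.Agent.Lib.FMod7.ComplExact
import Groth.Agent.Lib.FPush7.PushSections

/-!
# Sections of completed quasi-coherent modules over affine opens, without finiteness of the base
-/

set_option autoImplicit false
set_option linter.style.haveILetI false
set_option linter.unusedSectionVars false
universe u

open CategoryTheory CategoryTheory.Limits AlgebraicGeometry TopologicalSpace Opposite

noncomputable section

namespace GrothLib.FComp7

variable {X : Scheme.{u}} {𝓘 : X.IdealSheafData} (h : (FSch.completionAlong X 𝓘).IsFormal)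

/-- The morphism of ringed spaces from the completion. -/
abbrev kap : ModSite.RMor ((FSch.completionAlong X 𝓘).Osh h) X.sheaf :=
  FSch.toSchemeMor (FSch.completionAlong X 𝓘) h (FSch.completionToX X 𝓘) (FSch.completionToX_comm X 𝓘)

/-- The closed subspace under an open. -/
abbrev cOpen (U : X.Opens) : ((FSch.completionAlong X 𝓘).X 0).Opens := FSch.completionToX X 𝓘 0 ⁻¹ᵁ U

/-- The completed module. -/
abbrev cMod (F : X.Modules) : FSch.ModF (FSch.completionAlong X 𝓘) h := (FSch.complMod 𝓘 F).realMod h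

/-- The completed morphism. -/
abbrev cMap {F G : X.Modules} (f : F ⟶ G) : cMod h F ⟶ cMod h G :=
  FSch.ModSys.realModMap h (FSch.complModMap 𝓘 f)

/-- The components of the map to the completion. -/
abbrev toCompπ (F : X.Modules) (k : ℕ) : (show ModSite.Mod X.sheaf from F) ⟶ (kap h).push.obj
    ((FSch.levelMor (FSch.completionAlong X 𝓘) h k).push.obj ((FSch.complMod 𝓘 F).F k)) :=
  (Scheme.Modules.pullbackPushforwardAdjunction (FSch.completionToX X 𝓘 k)).unit.app F ≫
    (FSch.schPushCompare (FSch.completionAlong X 𝓘) h (FSch.completionToX X 𝓘) (FSch.completionToX_comm X 𝓘) k).app _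

theorem toCompπ_succ (F : X.Modules) (k : ℕ) : toCompπ h F (k + 1) ≫ (kap h).push.map
    ((FSch.levelSysOf (FSch.completionAlong X 𝓘) h (FSch.complMod 𝓘 F).F (FSch.complMod 𝓘 F).toPush).map
      (homOfLE (Nat.le_add_right k 1)).op) = toCompπ h F k :=
  FMod7.cone_succ_sys h (FSch.completionToX X 𝓘) (FSch.completionToX_comm X 𝓘) F (FSch.complTransIso 𝓘)
    (fun k => by rw [FSch.complTransIso]) k

/-- The map to the direct image of the completion. -/
def toComp (F : X.Modules) : (show ModSite.Mod X.sheaf from F) ⟶ (kap h).push.obj (cMod h F) :=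
  haveI := (kap h).adj.rightAdjoint_preservesLimits
  (isLimitOfPreserves (kap h).push (limit.isLimit
    (FSch.levelSysOf (FSch.completionAlong X 𝓘) h (FSch.complMod 𝓘 F).F (FSch.complMod 𝓘 F).toPush))).lift
    { pt := (show ModSite.Mod X.sheaf from F)
      π := NatTrans.ofOpSequence (fun k => toCompπ h F k) fun k =>
        (Category.id_comp _).trans (toCompπ_succ h F k).symm }

theorem toComp_proj (F : X.Modules) (k : ℕ) : toComp h F ≫ (kap h).push.map
    (FSch.realProj (FSch.completionAlong X 𝓘) h (FSch.complMod 𝓘 F).F (FSch.complMod 𝓘 F).toPush k) =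
      toCompπ h F k :=
  haveI := (kap h).adj.rightAdjoint_preservesLimits
  (isLimitOfPreserves (kap h).push (limit.isLimit
    (FSch.levelSysOf (FSch.completionAlong X 𝓘) h (FSch.complMod 𝓘 F).F (FSch.complMod 𝓘 F).toPush))).fac _ (op k)

/-- The sections of the completion over the closed subspace under an open. -/
abbrev CSec (U : X.Opens) (F : X.Modules) : Type u :=
  FMod7.LimSec h (cOpen U) (FSch.complMod 𝓘 F).F (FSch.complMod 𝓘 F).toPush

/-- The sections on a level. -/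
abbrev CLev (U : X.Opens) (F : X.Modules) (k : ℕ) : Type u := FMod7.MSec h (cOpen U) (FSch.complMod 𝓘 F).F k

/-- The projection to a level. -/
abbrev cProj (U : X.Opens) (F : X.Modules) (k : ℕ) : CSec h U F → CLev h U F k :=
  FMod7.sProj h (cOpen U) (FSch.complMod 𝓘 F).F (FSch.complMod 𝓘 F).toPush k

/-- The completion of a section. -/
def cOf (U : X.Opens) (F : X.Modules) : Γ(F, U) →+ CSec h U F := ((toComp h F).val.app (op U)).hom.toAddMonoidHom

theorem lvU_cOpen (U : X.Opens) (k : ℕ) :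
    (FSch.completionAlong X 𝓘).lvU h k (cOpen U) = FSch.completionToX X 𝓘 k ⁻¹ᵁ U :=
  (FSch.lvU_p (FSch.completionAlong X 𝓘) h (FSch.completionToX X 𝓘) (FSch.completionToX_comm X 𝓘) k U).symm

theorem cProj_cOf (U : X.Opens) (F : X.Modules) (k : ℕ) (m : Γ(F, U)) :
    cProj h U F k (cOf h U F m) = ((FSch.complMod 𝓘 F).F k).presheaf.map (homOfLE (lvU_cOpen h U k).le).op
      ((FPush7.levUnit 𝓘 F k).app U m) :=
  congrArg (fun φ : (show ModSite.Mod X.sheaf from F) ⟶ _ => φ.val.app (op U) m) (toComp_proj h F k)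

theorem cOf_res {U V : X.Opens} (hVU : V ≤ U) (F : X.Modules) (m : Γ(F, U)) :
    (cMod h F).val.map (homOfLE (Scheme.Hom.preimage_mono (FSch.completionToX X 𝓘 0) hVU)).op (cOf h U F m) =
      cOf h V F (F.presheaf.map (homOfLE hVU).op m) :=
  (PresheafOfModules.naturality_apply (toComp h F).val (homOfLE hVU).op m).symm

theorem cOf_nat (U : X.Opens) {F G : X.Modules} (f : F ⟶ G) (m : Γ(F, U)) :
    (cMap h f).val.app (op (cOpen U)) (cOf h U F m) = cOf h U G (f.app U m) := by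
  haveI := (kap h).adj.rightAdjoint_preservesLimits
  refine congrArg (fun φ : (show ModSite.Mod X.sheaf from F) ⟶ (kap h).push.obj (cMod h G) => φ.val.app (op U) m)
    (?_ : toComp h F ≫ (kap h).push.map (cMap h f) =
      (show (show ModSite.Mod X.sheaf from F) ⟶ G from f) ≫ toComp h G)
  refine (isLimitOfPreserves (kap h).push (limit.isLimit _)).hom_ext fun j => ?_
  let u := kap h
  let π := fun (H : X.Modules) => FSch.realProj (FSch.completionAlong X 𝓘) h (FSch.complMod 𝓘 H).F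
    (FSch.complMod 𝓘 H).toPush j.unop
  let χ := (FSch.levelMor (FSch.completionAlong X 𝓘) h j.unop).push.map ((FSch.complModMap 𝓘 f).app j.unop)
  have e1 : u.push.map (cMap h f) ≫ u.push.map (π G) = u.push.map (π F) ≫ u.push.map χ :=
    (u.push.map_comp _ _).symm.trans ((congrArg u.push.map (FSch.realLimMap_realProj _ h _
      (FSch.ModSys.Hom.toPush_comm (FSch.complModMap 𝓘 f)) j.unop)).trans (u.push.map_comp _ _))
  refine ((Category.assoc _ _ _).trans ((congrArg (toComp h F ≫ ·) e1).trans (Category.assoc _ _ _).symm)).trans ?_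
  refine Eq.trans ?_ (Category.assoc _ _ _).symm
  refine Eq.trans ?_ (congrArg (_ ≫ ·) (toComp_proj h G j.unop)).symm
  refine (congrArg (· ≫ u.push.map χ) (toComp_proj h F j.unop)).trans ?_
  exact (FMod7.cone_naturality (Scheme.Modules.pullbackPushforwardAdjunction (FSch.completionToX X 𝓘 j.unop))
    (FSch.schPushCompare (FSch.completionAlong X 𝓘) h (FSch.completionToX X 𝓘) (FSch.completionToX_comm X 𝓘) j.unop) f).symm

/-- Scalars act through the completion. -/
theorem cOf_smul (U : X.Opens) (F : X.Modules) (a : Γ(X, U)) (m : Γ(F, U)) :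
    cOf h U F (a • m) =
      (show FMod7.Sec (FSch.completionAlong X 𝓘) h (cOpen U) from ((kap h).sharp.hom.app (op U)).hom a) •
        cOf h U F m :=
  ((toComp h F).val.app (op U)).hom.map_smul a m

variable {F : X.Modules} (U : X.affineOpens)

theorem bij_levRes (k : ℕ) : Function.Bijective
    (((FSch.complMod 𝓘 F).F k).presheaf.map (homOfLE (lvU_cOpen h U.1 k).le).op) := by
  haveI : IsIso (((FSch.complMod 𝓘 F).F k).presheaf.map (homOfLE (lvU_cOpen h U.1 k).le).op) :=
    ((FSch.complMod 𝓘 F).F k).presheaf.map_isIso (eqToHom (congrArg op (lvU_cOpen h U.1 k).symm))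
  exact ConcreteCategory.bijective_of_isIso _

variable (hF : Coh.IsQCoh F)
include hF

theorem cProj_cOf_surjective (k : ℕ) : Function.Surjective fun m => cProj h U.1 F k (cOf h U.1 F m) := by
  intro z
  haveI := hF
  obtain ⟨w, hw⟩ := (bij_levRes h (F := F) U k).2 z
  haveI : IsClosedImmersion (FSch.completionToX X 𝓘 k) :=
    inferInstanceAs (IsClosedImmersion (𝓘 ^ (k + 1)).subschemeι)
  obtain ⟨m, hm⟩ := (K0Sub.app_unit_surjective_and_ker (FSch.completionToX X 𝓘 k) F U).1 w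
  exact ⟨m, (cProj_cOf h U.1 F k m).trans ((congrArg _ hm).trans hw)⟩

theorem cProj_cOf_eq_zero_iff (k : ℕ) (m : Γ(F, U.1)) : cProj h U.1 F k (cOf h U.1 F m) = 0 ↔
    m ∈ 𝓘.ideal U ^ (k + 1) • (⊤ : Submodule Γ(X, U.1) Γ(F, U.1)) := by
  haveI := hF
  haveI : IsClosedImmersion (FSch.completionToX X 𝓘 k) :=
    inferInstanceAs (IsClosedImmersion (𝓘 ^ (k + 1)).subschemeι)
  have := (K0Sub.app_unit_surjective_and_ker (FSch.completionToX X 𝓘 k) F U).2 m
  rw [FSchSys.ker_completionToX, Scheme.IdealSheafData.ideal_pow, Pi.pow_apply] at this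
  rw [cProj_cOf, map_eq_zero_iff _ (bij_levRes h (F := F) U k).1]
  exact this

theorem cProj_eq_iff (k : ℕ) (m m' : Γ(F, U.1)) : cProj h U.1 F k (cOf h U.1 F m) = cProj h U.1 F k (cOf h U.1 F m') ↔
    m - m' ∈ 𝓘.ideal U ^ (k + 1) • (⊤ : Submodule Γ(X, U.1) Γ(F, U.1)) := by
  rw [← cProj_cOf_eq_zero_iff h U hF, ← sub_eq_zero (a := cProj h U.1 F k (cOf h U.1 F m)), map_sub]
  exact Eq.congr (map_sub (AddMonoidHom.mk' (cProj h U.1 F k) (FMod7.sProj_add h _ _ _ k)) _ _).symm rfl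

/-- A completed section has approximations. -/
theorem exists_approx (x : CSec h U.1 F) : ∃ m : ℕ → Γ(F, U.1), (∀ k, cProj h U.1 F k (cOf h U.1 F (m k)) = cProj h U.1 F k x) ∧
    ∀ k, m (k + 1) - m k ∈ 𝓘.ideal U ^ (k + 1) • (⊤ : Submodule Γ(X, U.1) Γ(F, U.1)) := by
  choose m hm using fun k => cProj_cOf_surjective h U hF k (cProj h U.1 F k x)
  refine ⟨m, hm, fun k => (cProj_eq_iff h U hF k _ _).1 ?_⟩
  refine Eq.trans ?_ ((FMod7.sTrans_sProj h _ _ _ k x).trans (hm k).symm)
  exact (FMod7.sTrans_sProj h _ _ _ k _).symm.trans (congrArg _ (hm (k + 1)))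

/-- Approximations converge. -/
theorem exists_limit (m : ℕ → Γ(F, U.1))
    (hm : ∀ k, m (k + 1) - m k ∈ 𝓘.ideal U ^ (k + 1) • (⊤ : Submodule Γ(X, U.1) Γ(F, U.1))) :
    ∃ x : CSec h U.1 F, ∀ k, cProj h U.1 F k x = cProj h U.1 F k (cOf h U.1 F (m k)) :=
  FMod7.exists_section h _ _ _ (fun k => cProj h U.1 F k (cOf h U.1 F (m k))) fun k =>
    (FMod7.sTrans_sProj h _ _ _ k _).trans ((cProj_eq_iff h U hF k _ _).2 (hm k))

omit hF

theorem csec_ext (x y : CSec h U.1 F) (hxy : ∀ k, cProj h U.1 F k x = cProj h U.1 F k y) : x = y :=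
  FMod7.section_ext h _ _ _ x y hxy

theorem cProj_map {G : X.Modules} (f : F ⟶ G) (k : ℕ) (x : CSec h U.1 F) (m : Γ(F, U.1))
    (hx : cProj h U.1 F k x = cProj h U.1 F k (cOf h U.1 F m)) :
    cProj h U.1 G k ((cMap h f).val.app (op (cOpen U.1)) x) = cProj h U.1 G k (cOf h U.1 G (f.app U.1 m)) := by
  let P := fun (H : X.Modules) => FSch.realProj (FSch.completionAlong X 𝓘) h (FSch.complMod 𝓘 H).F
    (FSch.complMod 𝓘 H).toPush k
  have e := FSch.realLimMap_realProj (FSch.completionAlong X 𝓘) h _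
    (FSch.ModSys.Hom.toPush_comm (FSch.complModMap 𝓘 f)) k
  have key : ∀ z, cProj h U.1 G k ((cMap h f).val.app (op (cOpen U.1)) z) =
      ((FSch.levelMor (FSch.completionAlong X 𝓘) h k).push.map ((FSch.complModMap 𝓘 f).app k)).val.app
        (op (cOpen U.1)) (cProj h U.1 F k z) :=
    fun z => congrArg (fun φ : cMod h F ⟶ _ => φ.val.app (op (cOpen U.1)) z) e
  rw [← cOf_nat, key, key, hx]

section Exact

variable {F' G : X.Modules} (hF' : Coh.IsQCoh F') (hG : Coh.IsQCoh G) (f : F' ⟶ F) (g : F ⟶ G)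

theorem mem_mono {M : X.Modules} {j k : ℕ} (hjk : j ≤ k) {m : Γ(M, U.1)}
    (hm : m ∈ 𝓘.ideal U ^ k • (⊤ : Submodule Γ(X, U.1) Γ(M, U.1))) :
    m ∈ 𝓘.ideal U ^ j • (⊤ : Submodule Γ(X, U.1) Γ(M, U.1)) :=
  Submodule.smul_mono_left (Ideal.pow_le_pow_right hjk) hm

theorem app_mem {M N : X.Modules} (φ : M ⟶ N) (n : ℕ) {m : Γ(M, U.1)}
    (hm : m ∈ 𝓘.ideal U ^ n • (⊤ : Submodule Γ(X, U.1) Γ(M, U.1))) :
    φ.app U.1 m ∈ 𝓘.ideal U ^ n • (⊤ : Submodule Γ(X, U.1) Γ(N, U.1)) := by
  refine Submodule.smul_induction_on hm (fun a ha x _ => ?_) fun x y hx hy => ?_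
  · rw [Scheme.Modules.Hom.app_smul]
    exact Submodule.smul_mem_smul ha Submodule.mem_top
  · rw [map_add]
    exact add_mem hx hy

include hF hG in
/-- Completion keeps surjectivity on sections over affine opens. -/
theorem cMap_surjective (hg : Function.Surjective (g.app U.1)) :
    Function.Surjective ((cMap h g).val.app (op (cOpen U.1))) := by
  intro y
  obtain ⟨c, hc, hcauchy⟩ := exists_approx h U hG (show CSec h U.1 G from y)
  have hlift : ∀ k (z : Γ(G, U.1)), z ∈ 𝓘.ideal U ^ k • (⊤ : Submodule Γ(X, U.1) Γ(G, U.1)) →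
      ∃ w : Γ(F, U.1), w ∈ 𝓘.ideal U ^ k • (⊤ : Submodule Γ(X, U.1) Γ(F, U.1)) ∧ g.app U.1 w = z := by
    intro k z hz
    refine Submodule.smul_induction_on hz (fun a ha x _ => ?_) ?_
    · obtain ⟨w, hw⟩ := hg x
      exact ⟨a • w, Submodule.smul_mem_smul ha Submodule.mem_top, by rw [Scheme.Modules.Hom.app_smul, hw]⟩
    · rintro _ _ ⟨w, hw, rfl⟩ ⟨w', hw', rfl⟩
      exact ⟨w + w', add_mem hw hw', map_add _ _ _⟩
  choose d hd hdg using fun k => hlift (k + 1) _ (hcauchy k)
  obtain ⟨b₀, hb₀⟩ := hg (c 0)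
  let b : ℕ → Γ(F, U.1) := fun k => b₀ + ∑ i ∈ Finset.range k, d i
  have hb : ∀ k, g.app U.1 (b k) = c k := by
    intro k
    induction k with
    | zero => simpa [b] using hb₀
    | succ k ih =>
      have : b (k + 1) = b k + d k := by simp [b, Finset.sum_range_succ, add_assoc]
      rw [this, map_add, ih, hdg, add_sub_cancel]
  obtain ⟨x, hx⟩ := exists_limit h U hF b fun k => by
    have : b (k + 1) - b k = d k := by simp [b, Finset.sum_range_succ]
    rw [this]; exact hd k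
  exact ⟨x, csec_ext h U _ _ fun k => (cProj_map h U g k x (b k) (hx k)).trans (by rw [hb]; exact hc k)⟩

include hF' hF in
/-- Completion keeps injectivity on sections, given Artin–Rees. -/
theorem cMap_injective (n₀ : ℕ) (har : ∀ (k : ℕ) (a : Γ(F', U.1)),
      f.app U.1 a ∈ 𝓘.ideal U ^ (k + n₀) • (⊤ : Submodule Γ(X, U.1) Γ(F, U.1)) →
        a ∈ 𝓘.ideal U ^ k • (⊤ : Submodule Γ(X, U.1) Γ(F', U.1)))
    (x : CSec h U.1 F') (hx0 : (cMap h f).val.app (op (cOpen U.1)) x = 0) : x = 0 := by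
  obtain ⟨a, ha, hcauchy⟩ := exists_approx h U hF' x
  have h0 : ∀ k, a (k + n₀) ∈ 𝓘.ideal U ^ (k + 1) • (⊤ : Submodule Γ(X, U.1) Γ(F', U.1)) := by
    intro k
    refine har _ _ (mem_mono U ?_ ((cProj_cOf_eq_zero_iff h U hF (k + n₀) _).1 ?_))
    · omega
    · rw [← cProj_map h U f (k + n₀) x (a (k + n₀)) (ha (k + n₀)).symm, hx0]
      exact map_zero (AddMonoidHom.mk' (cProj h U.1 F (k + n₀)) (FMod7.sProj_add h _ _ _ (k + n₀)))
  have hle : ∀ k d, a (k + d) - a k ∈ 𝓘.ideal U ^ (k + 1) • (⊤ : Submodule Γ(X, U.1) Γ(F', U.1)) := by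
    intro k d
    induction d with
    | zero => simp
    | succ d ih =>
      rw [show a (k + (d + 1)) - a k = (a (k + d + 1) - a (k + d)) + (a (k + d) - a k) by rw [← add_assoc]; abel]
      exact add_mem (mem_mono U (by omega) (hcauchy (k + d))) ih
  refine csec_ext h U _ _ fun k => ?_
  rw [show cProj h U.1 F' k (0 : CSec h U.1 F') = 0 from
    map_zero (AddMonoidHom.mk' (cProj h U.1 F' k) (FMod7.sProj_add h _ _ _ k)), ← ha k,
    cProj_cOf_eq_zero_iff h U hF']
  have := sub_mem (h0 k) (hle k n₀)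
  rwa [sub_sub_cancel] at this

include hF' hF hG in
/-- Completion keeps exactness on sections, given Artin–Rees. -/
theorem cMap_exact (hg : Function.Surjective (g.app U.1))
    (hex : ∀ b : Γ(F, U.1), g.app U.1 b = 0 → ∃ a, f.app U.1 a = b)
        (n₀ : ℕ) (har : ∀ (k : ℕ) (a : Γ(F', U.1)),
      f.app U.1 a ∈ 𝓘.ideal U ^ (k + n₀) • (⊤ : Submodule Γ(X, U.1) Γ(F, U.1)) →
        a ∈ 𝓘.ideal U ^ k • (⊤ : Submodule Γ(X, U.1) Γ(F', U.1)))
    (x : CSec h U.1 F) (hx0 : (cMap h g).val.app (op (cOpen U.1)) x = 0) :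
    ∃ y : CSec h U.1 F', (cMap h f).val.app (op (cOpen U.1)) y = x := by
  obtain ⟨b, hb, hcauchy⟩ := exists_approx h U hF x
  have hlift : ∀ k (z : Γ(G, U.1)), z ∈ 𝓘.ideal U ^ k • (⊤ : Submodule Γ(X, U.1) Γ(G, U.1)) →
      ∃ w : Γ(F, U.1), w ∈ 𝓘.ideal U ^ k • (⊤ : Submodule Γ(X, U.1) Γ(F, U.1)) ∧ g.app U.1 w = z := by
    intro k z hz
    refine Submodule.smul_induction_on hz (fun a ha x _ => ?_) ?_
    · obtain ⟨w, hw⟩ := hg x
      exact ⟨a • w, Submodule.smul_mem_smul ha Submodule.mem_top, by rw [Scheme.Modules.Hom.app_smul, hw]⟩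
    · rintro _ _ ⟨w, hw, rfl⟩ ⟨w', hw', rfl⟩
      exact ⟨w + w', add_mem hw hw', map_add _ _ _⟩
  have hgb : ∀ j, g.app U.1 (b j) ∈ 𝓘.ideal U ^ (j + 1) • (⊤ : Submodule Γ(X, U.1) Γ(G, U.1)) := fun j => by
    refine (cProj_cOf_eq_zero_iff h U hG j _).1 ?_
    rw [← cProj_map h U g j x (b j) (hb j).symm, hx0]
    exact map_zero (AddMonoidHom.mk' (cProj h U.1 G j) (FMod7.sProj_add h _ _ _ j))
  choose w hw hwg using fun j => hlift (j + 1) _ (hgb j)
  choose a ha using fun j => hex (b j - w j) (by rw [map_sub, hwg, sub_self])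
  obtain ⟨y, hy⟩ := exists_limit h U hF' (fun k => a (k + n₀)) fun k => by
    refine har _ _ ?_
    rw [map_sub, ha, ha, show k + 1 + n₀ = k + n₀ + 1 by omega,
      show b (k + n₀ + 1) - w (k + n₀ + 1) - (b (k + n₀) - w (k + n₀)) =
        (b (k + n₀ + 1) - b (k + n₀)) - w (k + n₀ + 1) + w (k + n₀) by abel]
    exact add_mem (sub_mem (hcauchy _) (mem_mono U (by omega) (hw _))) (hw _)
  refine ⟨y, csec_ext h U _ _ fun k => ?_⟩
  rw [cProj_map h U f k y _ (hy k), ha, ← hb k, cProj_eq_iff h U hF]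
  have hle : ∀ d, b (k + d) - b k ∈ 𝓘.ideal U ^ (k + 1) • (⊤ : Submodule Γ(X, U.1) Γ(F, U.1)) := by
    intro d
    induction d with
    | zero => simp
    | succ d ih =>
      rw [show b (k + (d + 1)) - b k = (b (k + d + 1) - b (k + d)) + (b (k + d) - b k) by rw [← add_assoc]; abel]
      exact add_mem (mem_mono U (by omega) (hcauchy (k + d))) ih
  rw [show b (k + n₀) - w (k + n₀) - b k = (b (k + n₀) - b k) - w (k + n₀) by abel]
  exact sub_mem (hle n₀) (mem_mono U (by omega) (hw _))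

end Exact

end GrothLib.FComp7
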