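import Groth.Agent.Lib.FComp7.Sections
import Groth.Agent.Lib.FComp7.BasisExact
import Groth.Agent.Lib.FormalExist7.IdealSys
import Groth.Agent.Lib.FMod7.Algz
import Groth.Agent.Lib.QCoh.FT

/-!
# Completion of modules on affine formal spectra, without finiteness of the base
-/

set_option autoImplicit false
set_option linter.style.haveILetI false
set_option linter.unusedSectionVars false
universe u

open CategoryTheory CategoryTheory.Limits AlgebraicGeometry TopologicalSpace Opposite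

noncomputable section

namespace GrothLib.FComp7

variable {R : CommRingCat.{u}}

/-- A basic affine open. -/
abbrev dOpen (a : R) : (Spec R).affineOpens := ⟨PrimeSpectrum.basicOpen a, IsAffineOpen.Spec_basicOpen a⟩

/-- The scalars on an open. -/
abbrev scal (U : (Spec R).Opens) : R →+* Γ(Spec R, U) :=
  ((Spec R).presheaf.map U.leTop.op).hom.comp (Scheme.ΓSpecIso R).inv.hom

theorem ideal_idealSpec_eq {A : Type u} [CommRing A] (J : Ideal A) (U : (Spec (CommRingCat.of A)).affineOpens) :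
    (FSch.idealSpec A J).ideal U = J.map (scal U.1) := by
  rw [← Scheme.IdealSheafData.map_ideal (V := ⟨⊤, isAffineOpen_top _⟩) (FSch.idealSpec A J)
    (show U.1 ≤ ⊤ from le_top), FormalExist7.ideal_idealSpec, Ideal.map_map]
  rfl

theorem mem_ideal_smul_iff {𝓘 : (Spec R).IdealSheafData} {J : Ideal R} (h𝓘 : ∀ U, 𝓘.ideal U = J.map (scal U.1))
    (U : (Spec R).affineOpens) (G : (Spec R).Modules) (n : ℕ) (x : Γ(G, U.1)) :
    x ∈ 𝓘.ideal U ^ n • (⊤ : Submodule Γ(Spec R, U.1) Γ(G, U.1)) ↔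
      x ∈ J ^ n • (⊤ : Submodule R Γ(G, U.1)) := by
  rw [h𝓘, ← Ideal.map_pow]
  exact FPush7.mem_map_smul_top_iff (scal U.1) (fun r m => Scheme.Modules.smul_Spec_def r m) _ x

variable {M N P : ModuleCat.{u} R}

/-- Sections of the tilde over an open. -/
abbrev toU (M : ModuleCat.{u} R) (U : (Spec R).Opens) : M →ₗ[R] Γ(tilde M, U) :=
  (tilde.toOpen M U).hom

instance isLocalizedModule_toU (M : ModuleCat.{u} R) (a : R) :
    IsLocalizedModule (Submonoid.powers a) (toU M (dOpen a).1) :=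
  inferInstanceAs (IsLocalizedModule.Away a (tilde.toOpen M (PrimeSpectrum.basicOpen a)).hom)

theorem map_toU (f : M ⟶ N) (U : (Spec R).Opens) (m : M) :
    (tilde.map f).app U (toU M U m) = toU N U (f.hom m) :=
  ConcreteCategory.congr_hom (tilde.toOpen_map_app f U) m

theorem app_smul_spec {F G : (Spec R).Modules} (φ : F ⟶ G) (U : (Spec R).Opens) (r : R) (x : Γ(F, U)) :
    φ.app U (r • x) = r • φ.app U x := by
  rw [Scheme.Modules.smul_Spec_def, Scheme.Modules.smul_Spec_def]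
  exact Scheme.Modules.Hom.app_smul φ _ x

theorem exists_rep (M : ModuleCat.{u} R) (a : R) (x : Γ(tilde M, (dOpen a).1)) :
    ∃ (m : M) (i : ℕ), a ^ i • x = toU M (dOpen a).1 m := by
  obtain ⟨⟨m, ⟨_, i, rfl⟩⟩, hm⟩ := IsLocalizedModule.surj (Submonoid.powers a)
    (toU M (dOpen a).1) x
  exact ⟨m, i, hm⟩

theorem toU_eq_zero {a : R} {m : M} (hm : toU M (dOpen a).1 m = 0) : ∃ i : ℕ, a ^ i • m = 0 := by
  obtain ⟨⟨_, i, rfl⟩, hc⟩ := (IsLocalizedModule.eq_zero_iff (Submonoid.powers a) (toU M (dOpen a).1)).1 hm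
  exact ⟨i, hc⟩

theorem smul_pow_injective {a : R} {i : ℕ} {x y : Γ(tilde M, (dOpen a).1)}
    (hxy : a ^ i • x = a ^ i • y) : x = y :=
  IsLocalizedModule.smul_injective (toU M (dOpen a).1) (⟨a ^ i, i, rfl⟩ : Submonoid.powers a) hxy

theorem exists_rep_mem (J : Ideal R) (a : R) (n : ℕ) (x : Γ(tilde M, (dOpen a).1))
    (hx : x ∈ J ^ n • (⊤ : Submodule R Γ(tilde M, (dOpen a).1))) :
    ∃ (m : M) (i : ℕ), m ∈ J ^ n • (⊤ : Submodule R M) ∧ a ^ i • x = toU M (dOpen a).1 m := by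
  refine Submodule.smul_induction_on hx (fun c hc z _ => ?_) ?_
  · obtain ⟨m, i, hm⟩ := exists_rep M a z
    exact ⟨c • m, i, Submodule.smul_mem_smul hc Submodule.mem_top, by rw [smul_comm, hm, map_smul]⟩
  · rintro z z' ⟨m, i, hm, e⟩ ⟨m', i', hm', e'⟩
    refine ⟨a ^ i' • m + a ^ i • m', i + i', add_mem (Submodule.smul_mem _ _ hm) (Submodule.smul_mem _ _ hm'), ?_⟩
    rw [smul_add, map_add, map_smul, map_smul, ← e, ← e', smul_smul, smul_smul, pow_add]
    rw [mul_comm (a ^ i) (a ^ i')]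

theorem map_mem (J : Ideal R) {B C : Type u} [AddCommGroup B] [Module R B] [AddCommGroup C] [Module R C]
    (φ : B →ₗ[R] C) (n : ℕ) {x : B} (hx : x ∈ J ^ n • (⊤ : Submodule R B)) : φ x ∈ J ^ n • (⊤ : Submodule R C) := by
  refine Submodule.smul_induction_on hx (fun c hc z _ => ?_) fun x y hx hy => ?_
  · rw [map_smul]
    exact Submodule.smul_mem_smul hc Submodule.mem_top
  · rw [map_add]
    exact add_mem hx hy

/-- The Artin–Rees property passes to basic opens. -/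
theorem artinRees_dOpen {𝓘 : (Spec R).IdealSheafData} {J : Ideal R} (h𝓘 : ∀ U, 𝓘.ideal U = J.map (scal U.1)) (f : M ⟶ N) (n₀ : ℕ)
    (har : ∀ (k : ℕ) (m : M), f.hom m ∈ J ^ (k + n₀) • (⊤ : Submodule R N) → m ∈ J ^ k • (⊤ : Submodule R M))
    (a : R) (k : ℕ) (x : Γ(tilde M, (dOpen a).1))
    (hx : (tilde.map f).app (dOpen a).1 x ∈
      𝓘.ideal (dOpen a) ^ (k + n₀) • (⊤ : Submodule Γ(Spec R, (dOpen a).1) _)) :
    x ∈ 𝓘.ideal (dOpen a) ^ k • (⊤ : Submodule Γ(Spec R, (dOpen a).1) _) := by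
  rw [mem_ideal_smul_iff h𝓘] at hx ⊢
  obtain ⟨n, i, hn, e⟩ := exists_rep_mem J a _ _ hx
  obtain ⟨m, j, e'⟩ := exists_rep M a x
  have h1 : toU N (dOpen a).1 (a ^ i • f.hom m - a ^ j • n) = 0 := by
    rw [map_sub, map_smul, map_smul, ← e, ← map_toU, ← e', app_smul_spec, smul_comm, sub_self]
  obtain ⟨l, hl⟩ := toU_eq_zero h1
  rw [smul_sub, sub_eq_zero, ← map_smul, ← map_smul] at hl
  have h2 := har k _ (hl ▸ Submodule.smul_mem _ _ (Submodule.smul_mem _ _ hn))
  have h3 := map_mem J (toU M (dOpen a).1) k h2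
  rw [map_smul, map_smul, ← e'] at h3
  have hu := Scheme.Modules.isUnit_algebraMap_end_of_le_basicOpen
    (M := tilde M) (U := (dOpen a).1) a le_rfl
  obtain ⟨u, hu'⟩ := ((hu.pow l).mul ((hu.pow i).mul (hu.pow j)))
  have h4 := map_mem J (↑u⁻¹ : Module.End R Γ(tilde M, (dOpen a).1)) k h3
  have h5 : (u : Module.End R Γ(tilde M, (dOpen a).1)) x = a ^ l • a ^ i • a ^ j • x := by
    rw [hu', ← map_pow, ← map_pow, ← map_pow]
    rfl
  rw [← h5] at h4
  rwa [show (↑u⁻¹ : Module.End R _) ((u : Module.End R _) x) = ((↑u⁻¹ * ↑u : Module.End R _)) x from rfl,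
    Units.inv_mul] at h4

variable {𝓘 : (Spec R).IdealSheafData} (J : Ideal R) (h𝓘 : ∀ U, 𝓘.ideal U = J.map (scal U.1))
  (h : (FSch.completionAlong (Spec R) 𝓘).IsFormal)

theorem isQCoh_tilde (M : ModuleCat.{u} R) : Coh.IsQCoh (X := Spec R) (tilde M) :=
  inferInstanceAs (SheafOfModules.IsQuasicoherent.{u} (tilde M))

theorem exists_cOpen_nbhd (V : ((FSch.completionAlong (Spec R) 𝓘).X 0).Opens)
    (x : (FSch.completionAlong (Spec R) 𝓘).X 0) (hx : x ∈ V) :
    ∃ a : R, x ∈ cOpen (𝓘 := 𝓘) (dOpen a).1 ∧ cOpen (𝓘 := 𝓘) (dOpen a).1 ≤ V := by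
  let p := FSch.completionToX (Spec R) 𝓘 0
  haveI : IsClosedImmersion p := inferInstanceAs (IsClosedImmersion ((𝓘 ^ (0 + 1)).subschemeι))
  obtain ⟨O, hO, hOV⟩ := p.isClosedEmbedding.isInducing.isOpen_iff.1 V.2
  have hxO : p x ∈ O := by
    have : x ∈ p ⁻¹' O := by rw [hOV]; exact hx
    exact this
  obtain ⟨_, ⟨_, ⟨a, rfl⟩, rfl⟩, hxa, haO⟩ :=
    PrimeSpectrum.isBasis_basic_opens.exists_subset_of_mem_open hxO hO
  exact ⟨a, hxa, fun z hz => (Set.ext_iff.1 hOV z).1 (haO hz)⟩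

/-- The completed module of a module. -/
abbrev cT (M : ModuleCat.{u} R) : FSch.ModF (FSch.completionAlong (Spec R) 𝓘) h :=
  cMod h (tilde M)

/-- The completed morphism. -/
abbrev cTMap (f : M ⟶ N) : cT h M ⟶ cT h N := cMap h (tilde.map f)

theorem cTMap_comp (f : M ⟶ N) (g : N ⟶ P) : cTMap h (f ≫ g) = cTMap h f ≫ cTMap h g := by
  refine (congrArg (FSch.ModSys.realModMap h) ?_).trans (FMod7.realModMap_comp h _ _)
  refine FSch.ModSys.Hom.ext (funext fun k => ?_)
  exact (congrArg (Scheme.Modules.pullback (FSch.completionToX (Spec R) 𝓘 k)).map (tilde.map_comp f g)).trans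
    (Functor.map_comp _ _ _)

theorem map_app_surjective (g : M ⟶ N) (hg : Function.Surjective g.hom) (a : R) :
    Function.Surjective ((tilde.map g).app (dOpen a).1) := by
  intro y
  obtain ⟨n, i, hn⟩ := exists_rep N a y
  obtain ⟨m, rfl⟩ := hg n
  obtain ⟨u, hu⟩ := (Scheme.Modules.isUnit_algebraMap_end_of_le_basicOpen
    (M := tilde M) (U := (dOpen a).1) a le_rfl).pow i
  let z := (↑u⁻¹ : Module.End R Γ(tilde M, (dOpen a).1)) (toU M (dOpen a).1 m)
  have hz : a ^ i • z = toU M (dOpen a).1 m := by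
    have e := congrArg (fun φ : Module.End R Γ(tilde M, (dOpen a).1) => φ (toU M (dOpen a).1 m))
      u.mul_inv
    rw [hu, ← map_pow] at e
    exact e
  refine ⟨z, smul_pow_injective (a := a) (i := i) ?_⟩
  rw [← app_smul_spec, hz, map_toU, hn]

theorem comp_app_eq_zero (f : M ⟶ N) (g : N ⟶ P) (w : ∀ m, g.hom (f.hom m) = 0) (a : R)
    (x : Γ(tilde M, (dOpen a).1)) :
    (tilde.map g).app (dOpen a).1 ((tilde.map f).app (dOpen a).1 x) = 0 := by
  obtain ⟨m, i, hm⟩ := exists_rep M a x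
  refine smul_pow_injective (a := a) (i := i) ?_
  rw [← app_smul_spec, ← app_smul_spec, hm, map_toU, map_toU, w, map_zero, smul_zero]

theorem map_app_exact (f : M ⟶ N) (g : N ⟶ P) (hfg : ∀ n, g.hom n = 0 → ∃ m, f.hom m = n) (a : R)
    (y : Γ(tilde N, (dOpen a).1))
    (hy : (tilde.map g).app (dOpen a).1 y = 0) :
    ∃ x, (tilde.map f).app (dOpen a).1 x = y := by
  obtain ⟨n, i, hn⟩ := exists_rep N a y
  have h0 : toU P (dOpen a).1 (g.hom n) = 0 := by rw [← map_toU, ← hn, app_smul_spec, hy, smul_zero]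
  obtain ⟨l, hl⟩ := toU_eq_zero h0
  rw [← map_smul] at hl
  obtain ⟨m, hm⟩ := hfg _ hl
  obtain ⟨u, hu⟩ := (Scheme.Modules.isUnit_algebraMap_end_of_le_basicOpen
    (M := tilde M) (U := (dOpen a).1) a le_rfl).pow (l + i)
  let z := (↑u⁻¹ : Module.End R Γ(tilde M, (dOpen a).1)) (toU M (dOpen a).1 m)
  have hz : a ^ (l + i) • z = toU M (dOpen a).1 m := by
    have e := congrArg (fun φ : Module.End R Γ(tilde M, (dOpen a).1) => φ (toU M (dOpen a).1 m))
      u.mul_inv
    rw [hu, ← map_pow] at e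
    exact e
  refine ⟨z, smul_pow_injective (a := a) (i := l + i) ?_⟩
  rw [← app_smul_spec, hz, map_toU, hm, map_smul, ← hn, smul_smul, ← pow_add]

include h𝓘 in
/-- Completion is exact on finite modules with the Artin–Rees property. -/
theorem shortExact_cTMap (f : M ⟶ N) (g : N ⟶ P) (w : ∀ m, g.hom (f.hom m) = 0)
    (hfg : ∀ n, g.hom n = 0 → ∃ m, f.hom m = n) (hg : Function.Surjective g.hom) (n₀ : ℕ)
    (har : ∀ (k : ℕ) (m : M), f.hom m ∈ J ^ (k + n₀) • (⊤ : Submodule R N) → m ∈ J ^ k • (⊤ : Submodule R M)) :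
    ∃ e : cTMap h f ≫ cTMap h g = 0, (ShortComplex.mk _ _ e).ShortExact := by
  let C := FSch.completionAlong (Spec R) 𝓘
  let B := fun a : R => cOpen (𝓘 := 𝓘) (dOpen a).1
  have e : cTMap h f ≫ cTMap h g = 0 := by
    refine SheafOfModules.hom_ext (PresheafOfModules.hom_ext fun V => ModuleCat.hom_ext (LinearMap.ext fun x => ?_))
    refine FMod7.sect_ext _ _ _ fun y hy => ?_
    obtain ⟨a, hya, ha⟩ := exists_cOpen_nbhd V.unop y hy
    refine ⟨B a, ha, hya, ?_⟩
    refine (app_res_eq _ ha x).symm.trans (Eq.trans ?_ (app_res_eq (0 : cT h M ⟶ cT h P) ha x))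
    let z : CSec h (dOpen a).1 (tilde M) := FMod7.sres (cT h M) ha x
    refine csec_ext h (dOpen a) _ _ fun k => ?_
    obtain ⟨m, hm, -⟩ := exists_approx h (dOpen a) (isQCoh_tilde M) z
    have h1 := cProj_map h (dOpen a) (tilde.map f) k z (m k) (hm k).symm
    refine (cProj_map h (dOpen a) (tilde.map g) k _ _ h1).trans ?_
    rw [comp_app_eq_zero f g w]
    exact congrArg (cProj h _ _ k) (map_zero _)
  refine ⟨e, shortExact_of_basis B (exists_cOpen_nbhd) _ (fun a x hx => ?_) (fun a x hx => ?_) fun a => ?_⟩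
  · exact cMap_injective h (dOpen a) (isQCoh_tilde N) (isQCoh_tilde M) _ n₀
      (fun k m => artinRees_dOpen h𝓘 f n₀ har a k m) x hx
  · exact cMap_exact h (dOpen a) (isQCoh_tilde N) (isQCoh_tilde M) (isQCoh_tilde P) _ _
      (map_app_surjective g hg a) (map_app_exact f g hfg a) n₀ (fun k m => artinRees_dOpen h𝓘 f n₀ har a k m) x hx
  · exact cMap_surjective h (dOpen a) (isQCoh_tilde N) (isQCoh_tilde P) _ (map_app_surjective g hg a)

end GrothLib.FComp7
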